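import Mathlib

set_option autoImplicit false

/-! Project S63 (S3664): a concrete computable field with eight elements,
`F₂[x]/(x³ + x + 1)`, elements `a + b x + c x²` stored as three booleans. -/

namespace Cfsg.Agent.Lib.Helper21.S63

/-- the field with eight elements: `a + b x + c x²` with `x³ = x + 1` -/
structure F8c : Type where
  a : Bool
  b : Bool
  c : Bool
  deriving DecidableEq

namespace F8c

/-- the list of all eight elements -/
def all : List F8c :=
  [⟨false, false, false⟩, ⟨true, false, false⟩, ⟨false, true, false⟩, ⟨true, true, false⟩,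
   ⟨false, false, true⟩, ⟨true, false, true⟩, ⟨false, true, true⟩, ⟨true, true, true⟩]

instance instFintypeF8c : Fintype F8c :=
  ⟨⟨all, by decide⟩, fun x => by
    rcases x with ⟨a, b, c⟩
    cases a <;> cases b <;> cases c <;> decide⟩

/-- addition -/
def add (x y : F8c) : F8c := ⟨xor x.a y.a, xor x.b y.b, xor x.c y.c⟩

/-- multiplication modulo `x³ + x + 1` -/
def mul (x y : F8c) : F8c :=
  ⟨xor (x.a && y.a) (xor (x.b && y.c) (x.c && y.b)),
   xor (xor (x.a && y.b) (x.b && y.a)) (xor (xor (x.b && y.c) (x.c && y.b)) (x.c && y.c)),
   xor (xor (x.a && y.c) (x.b && y.b)) (xor (x.c && y.a) (x.c && y.c))⟩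

instance instZeroF8c : Zero F8c := ⟨⟨false, false, false⟩⟩
instance instOneF8c : One F8c := ⟨⟨true, false, false⟩⟩
instance instAddF8c : Add F8c := ⟨add⟩
instance instMulF8c : Mul F8c := ⟨mul⟩
instance instNegF8c : Neg F8c := ⟨id⟩

/-- inverse: `x⁻¹ = x⁶` -/
def inv (x : F8c) : F8c := mul (mul (mul x x) (mul x x)) (mul x x)

instance instInvF8c : Inv F8c := ⟨inv⟩

instance instCommRingF8c : CommRing F8c where
  add_assoc := by decide
  zero_add := by decide
  add_zero := by decide
  add_comm := by decide
  neg_add_cancel := by decide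
  mul_assoc := by decide
  one_mul := by decide
  mul_one := by decide
  left_distrib := by decide
  right_distrib := by decide
  zero_mul := by decide
  mul_zero := by decide
  mul_comm := by decide
  nsmul := nsmulRec
  zsmul := zsmulRec

instance instFieldF8c : Field F8c where
  exists_pair_ne := ⟨0, 1, by decide⟩
  mul_inv_cancel := by decide
  inv_zero := rfl
  nnqsmul := _
  nnqsmul_def := fun _ _ => rfl
  qsmul := _
  qsmul_def := fun _ _ => rfl

theorem two_eq_zero : (2 : F8c) = 0 := by decide

theorem card_eq : Fintype.card F8c = 8 := by decide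

theorem card_eq' : Fintype.card F8c = 2 ^ (2 * 1 + 1) := by decide

/-- the generator `x` -/
def X : F8c := ⟨false, true, false⟩

/-- the Frobenius automorphism `t ↦ t²` -/
def frob : F8c ≃+* F8c where
  toFun t := t * t
  invFun t := (t * t) * (t * t)
  left_inv := by decide
  right_inv := by decide
  map_mul' := by decide
  map_add' := by decide

theorem frob_apply (t : F8c) : frob t = t * t := rfl

theorem frob_pow_three : frob ^ 3 = 1 := by
  apply RingEquiv.ext
  decide

theorem frob_ne_one : frob ≠ 1 := by
  intro h
  have := congrArg (fun σ : F8c ≃+* F8c => σ X) h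
  revert this
  decide

end F8c

end Cfsg.Agent.Lib.Helper21.S63
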