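import Mathlib
import Cfsg.Prelude.Def_LieExceptional
import Cfsg.Agent.Lib.helper3.SuzukiFieldAut
import Cfsg.Agent.Lib.helper3.SuzukiTorus
import Cfsg.Agent.Lib.helper3.SuzukiCard
import Cfsg.Agent.Lib.Helper21.S63.F8c

set_option autoImplicit false

/-! Project S63 (S3664): the group `L = Sz(8) : 3` and its module `M = W ⊗ W^σ`
(`W = F₈⁴` the natural module), realised as `Mat₄(F₈)` with `(s, τ) • X = s · τ(X) · σ(s)ᵀ`. -/

namespace Cfsg.Agent.Lib.Helper21.S63

open Cfsg Matrix Cfsg.Agent.Lib.helper3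

/-- the Suzuki group `Sz(8)` over the concrete field `F8c` (helper3's model: the stabiliser of the
Suzuki–Tits ovoid in `SL₄`) -/
abbrev S8 : Type := Sz F8c 1

theorem hm1 : 1 ≤ 1 := le_refl 1

/-- the group of order three generated by the Frobenius automorphism of `F8c` -/
abbrev C3 : Type := Subgroup.zpowers F8c.frob

/-- field automorphisms act on `Sz(8)` (helper3's `fieldAut`), as a homomorphism -/
noncomputable def fieldAutHom : (F8c ≃+* F8c) →* MulAut S8 where
  toFun σ := fieldAut F8c.card_eq' hm1 σ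
  map_one' := by
    apply MulEquiv.ext
    intro g
    apply Subtype.ext
    apply Subtype.ext
    ext i j
    rw [fieldAut_apply, fieldHom_coe, slMap_apply]
    rfl
  map_mul' σ τ := by
    apply MulEquiv.ext
    intro g
    apply Subtype.ext
    apply Subtype.ext
    ext i j
    rw [MulAut.mul_apply, fieldAut_apply, fieldHom_coe, slMap_apply, fieldAut_apply, fieldHom_coe,
      slMap_apply, fieldAut_apply, fieldHom_coe, slMap_apply]
    rfl

/-- the action of `C3` on `Sz(8)` -/
noncomputable def φ63 : C3 →* MulAut S8 := fieldAutHom.comp (Subgroup.zpowers F8c.frob).subtype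

/-- `L = Sz(8) : 3` -/
abbrev L63 : Type := S8 ⋊[φ63] C3

/-- the module `M = Mat₄(F₈)` -/
abbrev M63 : Type := Matrix (Fin 4) (Fin 4) F8c

theorem szMat_φ63 (c : C3) (s : S8) :
    szMat (φ63 c s) = (szMat s).map (c : F8c ≃+* F8c) := by
  ext i j
  change ((fieldAut F8c.card_eq' hm1 (c : F8c ≃+* F8c) s : S8) :
    Matrix.SpecialLinearGroup (Fin 4) F8c) i j = _
  rw [fieldAut_apply, fieldHom_coe, slMap_apply]
  rfl

/-- the action of an element of `L` on `M`: `(s, τ) • X = s · τ(X) · σ(s)ᵀ` -/
def act63 (x : L63) (X : M63) : M63 :=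
  szMat x.left * X.map (x.right : F8c ≃+* F8c) * ((szMat x.left).map F8c.frob)ᵀ

end Cfsg.Agent.Lib.Helper21.S63
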