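import Mathlib
import Cfsg.Agent.Lib.Helper21.S63.Defs

set_option autoImplicit false

/-! Project S63 (S3664): `M = Mat₄(F₈)` as a module for `L = Sz(8) : 3`. -/

namespace Cfsg.Agent.Lib.Helper21.S63

open Cfsg Matrix Cfsg.Agent.Lib.helper3

theorem mapE_mul (σ : F8c ≃+* F8c) (A B : M63) :
    (A * B).map σ = A.map σ * B.map σ :=
  map_mul (σ : F8c →+* F8c).mapMatrix A B

theorem mapE_add (σ : F8c ≃+* F8c) (A B : M63) :
    (A + B).map σ = A.map σ + B.map σ :=
  map_add (σ : F8c →+* F8c).mapMatrix A B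

theorem mapE_zero (σ : F8c ≃+* F8c) : (0 : M63).map σ = 0 :=
  map_zero (σ : F8c →+* F8c).mapMatrix

theorem mapE_transpose (σ : F8c ≃+* F8c) (A : M63) : (Aᵀ).map σ = (A.map σ)ᵀ := rfl

theorem mapE_one (A : M63) : A.map (1 : F8c ≃+* F8c) = A := rfl

theorem mapE_mulE (σ τ : F8c ≃+* F8c) (A : M63) : A.map (σ * τ : F8c ≃+* F8c) = (A.map τ).map σ := rfl

theorem mapE_frob_comm (σ : F8c ≃+* F8c) (A : M63) :
    (A.map σ).map F8c.frob = (A.map F8c.frob).map σ := by
  ext i j
  simp only [Matrix.map_apply, F8c.frob_apply, map_mul]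

theorem act63_one (X : M63) : act63 1 X = X := by
  unfold act63
  rw [SemidirectProduct.one_left, SemidirectProduct.one_right, szMat_one]
  change (1 : M63) * X.map (1 : F8c ≃+* F8c) * ((1 : M63).map F8c.frob)ᵀ = X
  have h1 : (1 : M63).map F8c.frob = 1 := map_one (F8c.frob : F8c →+* F8c).mapMatrix
  rw [h1, mapE_one, Matrix.transpose_one, Matrix.one_mul, Matrix.mul_one]

theorem act63_mul (x y : L63) (X : M63) : act63 (x * y) X = act63 x (act63 y X) := by
  unfold act63
  rw [SemidirectProduct.mul_left, SemidirectProduct.mul_right, szMat_mul, szMat_φ63]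
  change szMat x.left * (szMat y.left).map (x.right : F8c ≃+* F8c) *
      X.map ((x.right : F8c ≃+* F8c) * (y.right : F8c ≃+* F8c) : F8c ≃+* F8c) *
      ((szMat x.left * (szMat y.left).map (x.right : F8c ≃+* F8c)).map F8c.frob)ᵀ = _
  rw [mapE_mulE, mapE_mul F8c.frob, Matrix.transpose_mul, mapE_frob_comm,
    mapE_mul (x.right : F8c ≃+* F8c), mapE_mul (x.right : F8c ≃+* F8c), mapE_transpose]
  simp only [Matrix.mul_assoc]

theorem act63_zero (x : L63) : act63 x 0 = 0 := by
  unfold act63
  rw [mapE_zero, Matrix.mul_zero, Matrix.zero_mul]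

theorem act63_add (x : L63) (X Y : M63) : act63 x (X + Y) = act63 x X + act63 x Y := by
  unfold act63
  rw [mapE_add, Matrix.mul_add, Matrix.add_mul]

noncomputable instance instDistribMulActionL63M63 : DistribMulAction L63 M63 where
  smul := act63
  one_smul := act63_one
  mul_smul := act63_mul
  smul_zero := act63_zero
  smul_add := act63_add

theorem smul63_def (x : L63) (X : M63) :
    x • X = szMat x.left * X.map (x.right : F8c ≃+* F8c) * ((szMat x.left).map F8c.frob)ᵀ := rfl

end Cfsg.Agent.Lib.Helper21.S63
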