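import Mathlib
import Cfsg.Agent.Lib.helper3.SuzukiCard
import Cfsg.Agent.Lib.Helper21.S63.Act

set_option autoImplicit false

/-! Project S63 (S3664), piece LA. -/

namespace Cfsg.Agent.Lib.Helper21.S63

open Cfsg Matrix Cfsg.Agent.Lib.helper3

theorem orderOf_frob : orderOf F8c.frob = 3 :=
  haveI : Fact (Nat.Prime 3) := ⟨Nat.prime_three⟩
  orderOf_eq_prime F8c.frob_pow_three F8c.frob_ne_one

theorem card_C3 : Nat.card C3 = 3 := by
  rw [Nat.card_zpowers, orderOf_frob]

theorem card_S8 : Nat.card S8 = 29120 := by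
  rw [card_Sz hm1 F8c.card_eq']
  norm_num

/-- S63-LA: the order of `L = Sz(8) : 3`. -/
theorem card_L63 : Nat.card L63 = 87360 := by
  rw [SemidirectProduct.card, card_S8, card_C3]

end Cfsg.Agent.Lib.Helper21.S63
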