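import Mathlib
import Cfsg.Agent.Lib.helper3.SuzukiPartition
import Cfsg.Agent.Lib.Helper21.S63.Act

set_option autoImplicit false

/-! Project S63 (S3664), pieces LA, LE, LG. -/

namespace Cfsg.Agent.Lib.Helper21.S63

open Cfsg Matrix Cfsg.Agent.Lib.helper3

/-- S63-LE: element orders of `Sz(8)`. -/
theorem orderOf_S8 (s : S8) : orderOf s ∣ 4 ∨ orderOf s = 5 ∨ orderOf s = 7 ∨ orderOf s = 13 := by
  have hF := F8c.card_eq'
  by_cases hs : s = 1
  · left
    rw [hs, orderOf_one]
    exact one_dvd 4
  rcases sz_trichotomy hF hm1 hs with ⟨u, a, b, _, rfl⟩ | ⟨u, k, _, rfl⟩ | hfpf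
  · left
    apply orderOf_dvd_of_pow_eq_one
    rw [conj_pow', gT_pow_four]
    group
  · right; right; left
    have hpow : (u * gD hF k * u⁻¹) ^ 7 = 1 := by
      rw [conj_pow']
      have := gD_pow_card hF k
      norm_num at this
      rw [this]
      group
    have hd : orderOf (u * gD hF k * u⁻¹) ∣ 7 := orderOf_dvd_of_pow_eq_one hpow
    rcases (Nat.dvd_prime (by norm_num : Nat.Prime 7)).1 hd with h | h
    · exact absurd (orderOf_eq_one_iff.1 h) hs
    · exact h
  · have hc := hfpf.cOrd_eq hF hm1
    unfold cOrd at hc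
    have hsC : s ∈ Subgroup.centralizer ({s} : Set S8) :=
      Subgroup.mem_centralizer_singleton_iff.2 rfl
    have hd : orderOf s ∣ Nat.card (Subgroup.centralizer ({s} : Set S8)) :=
      Subgroup.orderOf_dvd_natCard _ hsC
    rcases hc with h | h
    · right; right; right
      rw [h] at hd
      norm_num at hd
      rcases (Nat.dvd_prime (by norm_num : Nat.Prime 13)).1 hd with h' | h'
      · exact absurd (orderOf_eq_one_iff.1 h') hs
      · exact h'
    · right; left
      rw [h] at hd
      norm_num at hd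
      rcases (Nat.dvd_prime (by norm_num : Nat.Prime 5)).1 hd with h' | h'
      · exact absurd (orderOf_eq_one_iff.1 h') hs
      · exact h'

end Cfsg.Agent.Lib.Helper21.S63
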