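import Mathlib
import Cfsg.Agent.Lib.Helper21.S63.LE
import Cfsg.Agent.Lib.Helper21.S63.LA

set_option autoImplicit false

/-! Project S63 (S3664), piece LG: no elements of order `21, 35, 26, 39, 65, 91` in `L = Sz(8) : 3`. -/

namespace Cfsg.Agent.Lib.Helper21.S63

open Cfsg Matrix Cfsg.Agent.Lib.helper3

theorem orderOf_inl (s : S8) : orderOf (SemidirectProduct.inl s : L63) = orderOf s :=
  orderOf_injective (SemidirectProduct.inl : S8 →* L63) SemidirectProduct.inl_injective s

/-- an element of `L` whose order is prime to 3 lies in `Sz(8)` -/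
theorem exists_inl_of_coprime (g : L63) (h : Nat.Coprime (orderOf g) 3) :
    ∃ s : S8, g = SemidirectProduct.inl s := by
  have h1 : (SemidirectProduct.rightHom g : C3) ^ orderOf g = 1 := by
    rw [← map_pow, pow_orderOf_eq_one, map_one]
  have h2 : (SemidirectProduct.rightHom g : C3) ^ 3 = 1 := by
    have := pow_card_eq_one' (G := C3) (x := SemidirectProduct.rightHom g)
    rwa [card_C3] at this
  have h3 : orderOf (SemidirectProduct.rightHom g : C3) ∣ 1 := by
    have hg1 : Nat.gcd (orderOf g) 3 = 1 := h
    have := Nat.dvd_gcd (orderOf_dvd_of_pow_eq_one h1) (orderOf_dvd_of_pow_eq_one h2)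
    rwa [hg1] at this
  have h4 : (SemidirectProduct.rightHom g : C3) = 1 := orderOf_eq_one_iff.1 (Nat.dvd_one.1 h3)
  have h5 : g ∈ (SemidirectProduct.rightHom : L63 →* C3).ker := h4
  rw [← SemidirectProduct.range_inl_eq_ker_rightHom] at h5
  obtain ⟨s, hs⟩ := h5
  exact ⟨s, hs.symm⟩

theorem orderOf_S8_cases (s : S8) :
    orderOf s = 1 ∨ orderOf s = 2 ∨ orderOf s = 4 ∨ orderOf s = 5 ∨ orderOf s = 7 ∨
      orderOf s = 13 := by
  rcases orderOf_S8 s with h | h | h | h
  · have hle : orderOf s ≤ 4 := Nat.le_of_dvd (by norm_num) h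
    have hpos : 0 < orderOf s := Nat.pos_of_dvd_of_pos h (by norm_num)
    interval_cases hn : orderOf s
    · left; rfl
    · right; left; rfl
    · exfalso; revert h; norm_num
    · right; right; left; rfl
  · right; right; right; left; exact h
  · right; right; right; right; left; exact h
  · right; right; right; right; right; exact h

theorem no_coprime_order (g : L63) (n : ℕ) (hn : orderOf g = n) (h3 : Nat.Coprime n 3)
    (h1 : n ≠ 1) (h2 : n ≠ 2) (h4 : n ≠ 4) (h5 : n ≠ 5) (h7 : n ≠ 7) (h13 : n ≠ 13) : False := by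
  obtain ⟨s, rfl⟩ := exists_inl_of_coprime g (hn ▸ h3)
  rw [orderOf_inl] at hn
  rcases orderOf_S8_cases s with h | h | h | h | h | h <;> rw [hn] at h
  · exact h1 h
  · exact h2 h
  · exact h4 h
  · exact h5 h
  · exact h7 h
  · exact h13 h

theorem frob_frob_fixed : ∀ t : F8c, F8c.frob (F8c.frob t) = t → t * t = t := by decide

theorem trace_map_ringEquiv (σ : F8c ≃+* F8c) (A : M63) : (A.map σ).trace = σ A.trace := by
  unfold Matrix.trace
  rw [map_sum]
  rfl

/-- an element of `C3` other than `1` fixing `t` forces `t ∈ F₂` -/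
theorem fixed_of_C3 (c : C3) (hc : c ≠ 1) (t : F8c) (h : (c : F8c ≃+* F8c) t = t) : t * t = t := by
  obtain ⟨c, hcm⟩ := c
  obtain ⟨k, hk⟩ := Subgroup.mem_zpowers_iff.1 hcm
  change c t = t at h
  have hk3 : F8c.frob ^ (k % 3) = c := by
    have := zpow_mod_orderOf F8c.frob k
    rw [orderOf_frob] at this
    rw [← hk]
    exact this
  have hlt : k % 3 < 3 := Int.emod_lt_of_pos k (by norm_num)
  have hge : 0 ≤ k % 3 := Int.emod_nonneg k (by norm_num)
  interval_cases hj : k % 3
  · exfalso
    apply hc
    apply Subtype.ext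
    change c = 1
    rw [← hk3]
    rfl
  · rw [zpow_one] at hk3
    rw [← hk3] at h
    rw [F8c.frob_apply] at h
    exact h
  · apply frob_frob_fixed
    rw [← hk3] at h
    exact h

theorem no_three_order
    (htr : ∀ s : S8, orderOf s = 7 ∨ orderOf s = 13 →
      (szMat s).trace * (szMat s).trace ≠ (szMat s).trace)
    (g : L63) (q : ℕ) (hq : q = 7 ∨ q = 13) (hn : orderOf g = 3 * q) : False := by
  have hq0 : 0 < q := by rcases hq with rfl | rfl <;> norm_num
  -- `y = g ^ 3` has order `q` and lies in `Sz(8)`
  have hy : orderOf (g ^ 3) = q := by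
    rw [orderOf_pow' g (by norm_num), hn, Nat.gcd_eq_right (Dvd.intro q rfl)]
    exact Nat.mul_div_cancel_left q (by norm_num)
  have hcop : Nat.Coprime (orderOf (g ^ 3)) 3 := by
    rw [hy]
    rcases hq with rfl | rfl <;> norm_num
  obtain ⟨s, hs⟩ := exists_inl_of_coprime (g ^ 3) hcop
  have hso : orderOf s = q := by rw [← orderOf_inl, ← hs, hy]
  -- `g` is not in `Sz(8)`
  have hc : g.right ≠ 1 := by
    intro h1
    have hg : g = SemidirectProduct.inl g.left := by
      apply SemidirectProduct.ext
      · rfl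
      · rw [h1]; rfl
    rw [hg, orderOf_inl] at hn
    rcases orderOf_S8_cases g.left with h | h | h | h | h | h <;> rw [hn] at h <;>
      rcases hq with rfl | rfl <;> revert h <;> norm_num
  -- `g` commutes with `y`
  have hcomm : g * SemidirectProduct.inl s = SemidirectProduct.inl s * g := by
    rw [← hs]
    exact ((Commute.refl g).pow_right 3).eq
  have hleft := congrArg SemidirectProduct.left hcomm
  rw [SemidirectProduct.mul_left, SemidirectProduct.mul_left, SemidirectProduct.left_inl,
    SemidirectProduct.right_inl, map_one, MulAut.one_apply] at hleft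
  -- traces
  have htr' : (szMat (φ63 g.right s)).trace = (szMat s).trace := by
    have e : φ63 g.right s = g.left⁻¹ * s * g.left := by
      rw [mul_assoc, ← hleft]; group
    rw [e, szMat_mul, szMat_mul, Matrix.trace_mul_comm, ← Matrix.mul_assoc, ← szMat_mul,
      mul_inv_cancel, szMat_one, Matrix.one_mul]
  rw [szMat_φ63, trace_map_ringEquiv] at htr'
  have := fixed_of_C3 g.right hc _ htr'
  exact htr s (by rcases hq with rfl | rfl; exact Or.inl hso; exact Or.inr hso) this

/-- S63-LG: no elements of order `21, 35, 26, 39, 65, 91` in `L` (given S63-LF). -/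
theorem no_orders_L63
    (htr : ∀ s : S8, orderOf s = 7 ∨ orderOf s = 13 →
      (szMat s).trace * (szMat s).trace ≠ (szMat s).trace) (g : L63) :
    orderOf g ≠ 21 ∧ orderOf g ≠ 35 ∧ orderOf g ≠ 26 ∧ orderOf g ≠ 39 ∧ orderOf g ≠ 65 ∧
      orderOf g ≠ 91 := by
  refine ⟨fun h => ?_, fun h => ?_, fun h => ?_, fun h => ?_, fun h => ?_, fun h => ?_⟩
  · exact no_three_order htr g 7 (Or.inl rfl) h
  · exact no_coprime_order g 35 h (by norm_num) (by norm_num) (by norm_num) (by norm_num)
      (by norm_num) (by norm_num) (by norm_num)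
  · exact no_coprime_order g 26 h (by norm_num) (by norm_num) (by norm_num) (by norm_num)
      (by norm_num) (by norm_num) (by norm_num)
  · exact no_three_order htr g 13 (Or.inr rfl) h
  · exact no_coprime_order g 65 h (by norm_num) (by norm_num) (by norm_num) (by norm_num)
      (by norm_num) (by norm_num) (by norm_num)
  · exact no_coprime_order g 91 h (by norm_num) (by norm_num) (by norm_num) (by norm_num)
      (by norm_num) (by norm_num) (by norm_num)

end Cfsg.Agent.Lib.Helper21.S63
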