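import Mathlib
import Cfsg.Prelude.Def_Classical
import Cfsg.Agent.Lib.Helper21.S63.Act
import Cfsg.Agent.Lib.Helper21.S63.LG
import Cfsg.Agent.Lib.Helper10.S63SD
import Cfsg.Agent.Lib.Helper10.S63PA
import Cfsg.Agent.Lib.Helper10.S63PC
import Cfsg.Agent.Lib.helper3.S63LF
import Cfsg.Agent.Lib.Helper1.S63PD
import Cfsg.Agent.Lib.Helper28.S63PB
import Cfsg.Agent.Lib.helper3.S63LD
import Cfsg.Agent.Lib.Helper27.S63LC

set_option autoImplicit false

namespace Cfsg.Agent.Lib.Helper21.S63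

open Cfsg Matrix Cfsg.Agent.Lib.helper3

/-- the edge relation of the prime graph of `PSp(6,3)` -/
def Edge63 (p q : ℕ) : Prop :=
  (p = 2 ∧ q = 3) ∨ (p = 3 ∧ q = 2) ∨ (p = 2 ∧ q = 5) ∨ (p = 5 ∧ q = 2) ∨
  (p = 2 ∧ q = 7) ∨ (p = 7 ∧ q = 2) ∨ (p = 3 ∧ q = 5) ∨ (p = 5 ∧ q = 3)

/-- the vertex set -/
def Vert63 (p : ℕ) : Prop := p = 2 ∨ p = 3 ∨ p = 5 ∨ p = 7 ∨ p = 13

theorem vert_of_dvd_psp {p : ℕ} (hp : p.Prime) (h : p ∣ 4585351680) : Vert63 p := by
  have e : 4585351680 = 2 ^ 9 * 3 ^ 9 * 5 * 7 * 13 := by norm_num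
  rw [e] at h
  unfold Vert63
  rcases (Nat.Prime.dvd_mul hp).1 h with h | h
  · rcases (Nat.Prime.dvd_mul hp).1 h with h | h
    · rcases (Nat.Prime.dvd_mul hp).1 h with h | h
      · rcases (Nat.Prime.dvd_mul hp).1 h with h | h
        · left
          exact (Nat.prime_dvd_prime_iff_eq hp Nat.prime_two).1 (hp.dvd_of_dvd_pow h)
        · right; left
          exact (Nat.prime_dvd_prime_iff_eq hp Nat.prime_three).1 (hp.dvd_of_dvd_pow h)
      · right; right; left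
        exact (Nat.prime_dvd_prime_iff_eq hp Nat.prime_five).1 h
    · right; right; right; left
      exact (Nat.prime_dvd_prime_iff_eq hp (by norm_num)).1 h
  · right; right; right; right
    exact (Nat.prime_dvd_prime_iff_eq hp (by norm_num)).1 h

theorem vert_of_dvd_L {p : ℕ} (hp : p.Prime) (h : p ∣ 87360) : Vert63 p := by
  apply vert_of_dvd_psp hp
  exact dvd_trans h (by norm_num)

theorem dvd_of_vert {p : ℕ} (h : Vert63 p) : p ∣ 87360 := by
  rcases h with h | h | h | h | h <;> subst h <;> norm_num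

/-- a graph on `Vert63` whose edges are described by the six non-edges and four edges is `Edge63` -/
theorem edge_iff_of {G : Type*} [Group G] [Finite G]
    (hV : ∀ p : ℕ, p.Prime → p ∣ Nat.card G → Vert63 p)
    (h6 : ∃ g : G, orderOf g = 6) (h10 : ∃ g : G, orderOf g = 10) (h14 : ∃ g : G, orderOf g = 14)
    (h15 : ∃ g : G, orderOf g = 15)
    (h21 : ∀ g : G, orderOf g ≠ 21) (h35 : ∀ g : G, orderOf g ≠ 35) (h26 : ∀ g : G, orderOf g ≠ 26)
    (h39 : ∀ g : G, orderOf g ≠ 39) (h65 : ∀ g : G, orderOf g ≠ 65) (h91 : ∀ g : G, orderOf g ≠ 91)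
    (p q : ℕ) (hp : p.Prime) (hq : q.Prime) (hpq : p ≠ q) :
    (∃ g : G, orderOf g = p * q) ↔ Edge63 p q := by
  constructor
  · rintro ⟨g, hg⟩
    have hdp : p ∣ Nat.card G := dvd_trans (Dvd.intro q hg.symm) (orderOf_dvd_natCard g)
    have hdq : q ∣ Nat.card G := dvd_trans (Dvd.intro_left p hg.symm) (orderOf_dvd_natCard g)
    have vp := hV p hp hdp
    have vq := hV q hq hdq
    unfold Edge63
    rcases vp with rfl | rfl | rfl | rfl | rfl <;> rcases vq with rfl | rfl | rfl | rfl | rfl <;>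
      first
        | exact absurd rfl hpq
        | exact absurd hg (h21 g)
        | exact absurd hg (h35 g)
        | exact absurd hg (h26 g)
        | exact absurd hg (h39 g)
        | exact absurd hg (h65 g)
        | exact absurd hg (h91 g)
        | simp
  · unfold Edge63
    rintro (⟨rfl, rfl⟩ | ⟨rfl, rfl⟩ | ⟨rfl, rfl⟩ | ⟨rfl, rfl⟩ | ⟨rfl, rfl⟩ | ⟨rfl, rfl⟩ | ⟨rfl, rfl⟩ |
      ⟨rfl, rfl⟩)
    · exact h6
    · exact h6
    · exact h10
    · exact h10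
    · exact h14
    · exact h14
    · exact h15
    · exact h15

theorem psp_graph {F : Type*} [Field F] [Fintype F] (hF : Fintype.card F = 3) :
    (∀ p : ℕ, p.Prime → (p ∣ Nat.card (Cfsg.PSp 3 F) ↔ Vert63 p)) ∧
    (∀ p q : ℕ, p.Prime → q.Prime → p ≠ q →
      ((∃ g : Cfsg.PSp 3 F, orderOf g = p * q) ↔ Edge63 p q)) := by
  have hcard := Cfsg.Agent.Lib.Helper10.S63.psp_card hF
  have hfin : Finite (Cfsg.PSp 3 F) := Nat.finite_of_card_ne_zero (by rw [hcard]; norm_num)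
  obtain ⟨h15, h21, h35, h39, h65, h91⟩ := Cfsg.Agent.Lib.Helper28.S63.psp_odd hF
  obtain ⟨h6, h10, h14⟩ := Cfsg.Agent.Lib.Helper10.S63.psp_even hF
  have h26 := Cfsg.Agent.Lib.Helper1.S63.psp_no_26 hF
  have hV : ∀ p : ℕ, p.Prime → p ∣ Nat.card (Cfsg.PSp 3 F) → Vert63 p := by
    intro p hp h
    rw [hcard] at h
    exact vert_of_dvd_psp hp h
  refine ⟨fun p hp => ⟨hV p hp, fun h => ?_⟩, fun p q hp hq hpq =>
    edge_iff_of hV h6 h10 h14 h15 h21 h35 h26 h39 h65 h91 p q hp hq hpq⟩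
  rw [hcard]
  exact dvd_trans (dvd_of_vert h) (by norm_num)

theorem H_graph (N : ℕ) :
    ∃ (H : Type) (_ : Group H) (_ : Finite H), N < Nat.card H ∧
      (∀ p : ℕ, p.Prime → (p ∣ Nat.card H ↔ Vert63 p)) ∧
      (∀ p q : ℕ, p.Prime → q.Prime → p ≠ q → ((∃ g : H, orderOf g = p * q) ↔ Edge63 p q)) := by
  have hcardL := card_L63
  have hfinL : Finite L63 := Nat.finite_of_card_ne_zero (by rw [hcardL]; norm_num)
  have hF2 : Fact (Nat.Prime 2) := ⟨Nat.prime_two⟩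
  have hV2 : ∀ v : M63, 2 • v = 0 := by
    intro v
    ext i j
    rw [Matrix.smul_apply, Matrix.zero_apply, nsmul_eq_mul]
    have : ((2 : ℕ) : F8c) = 0 := F8c.two_eq_zero
    rw [this, zero_mul]
  obtain ⟨H, iG, iF, hN, hprimes, hodd, htwo⟩ := Cfsg.Agent.Lib.Helper10.S63.semidirect_graph (L := L63) 2 M63 hV2 N
  obtain ⟨h6L, h15L⟩ := Cfsg.Agent.Lib.Helper27.S63.exists_orders_L63
  obtain ⟨⟨g5, hg5, hfix5⟩, ⟨g7, hg7, hfix7⟩⟩ := Cfsg.Agent.Lib.Helper27.S63.exists_fixed_L63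
  have hVH : ∀ p : ℕ, p.Prime → p ∣ Nat.card H → Vert63 p := by
    intro p hp h
    rcases (hprimes p hp).1 h with h | h
    · left; exact h
    · rw [hcardL] at h
      exact vert_of_dvd_L hp h
  have two_ne : ∀ q : ℕ, q = 3 ∨ q = 5 ∨ q = 7 ∨ q = 13 → q ≠ 2 := by
    rintro q (rfl | rfl | rfl | rfl) <;> norm_num
  -- odd transfer
  have oddT : ∀ p q n : ℕ, p.Prime → q.Prime → p ≠ q → p ≠ 2 → q ≠ 2 → p * q = n →
      (∀ g : L63, orderOf g ≠ n) → ∀ g : H, orderOf g ≠ n := by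
    intro p q n hp hq hpq hp2 hq2 hn hL g hg
    obtain ⟨g', hg'⟩ := (hodd p q hp hq hpq hp2 hq2).1 ⟨g, by rw [hg, hn]⟩
    exact hL g' (by rw [hg', hn])
  have p3 : Nat.Prime 3 := Nat.prime_three
  have p5 : Nat.Prime 5 := Nat.prime_five
  have p7 : Nat.Prime 7 := by norm_num
  have p13 : Nat.Prime 13 := by norm_num
  refine ⟨H, iG, iF, hN, fun p hp => ⟨hVH p hp, fun h => ?_⟩, fun p q hp hq hpq => ?_⟩
  · rw [hprimes p hp, hcardL]
    exact Or.inr (dvd_of_vert h)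
  · apply edge_iff_of hVH
    · exact (htwo 3 p3 (by norm_num)).2 (Or.inl h6L)
    · exact (htwo 5 p5 (by norm_num)).2 (Or.inr ⟨g5, hg5, hfix5⟩)
    · exact (htwo 7 p7 (by norm_num)).2 (Or.inr ⟨g7, hg7, hfix7⟩)
    · exact (hodd 3 5 p3 p5 (by norm_num) (by norm_num) (by norm_num)).2 h15L
    · exact oddT 3 7 21 p3 p7 (by norm_num) (by norm_num) (by norm_num) (by norm_num)
        (fun g => (no_orders_L63 Cfsg.Agent.Lib.helper3.S63.trace_S8 g).1)
    · exact oddT 5 7 35 p5 p7 (by norm_num) (by norm_num) (by norm_num) (by norm_num)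
        (fun g => (no_orders_L63 Cfsg.Agent.Lib.helper3.S63.trace_S8 g).2.1)
    · intro g hg
      rcases (htwo 13 p13 (by norm_num)).1 ⟨g, by rw [hg]⟩ with ⟨g', hg'⟩ | ⟨y, hy, X, hX0, hX⟩
      · exact (no_orders_L63 Cfsg.Agent.Lib.helper3.S63.trace_S8 g').2.2.1 (by rw [hg'])
      · exact hX0 (Cfsg.Agent.Lib.helper3.S63.fpf13_L63 y hy X hX)
    · exact oddT 3 13 39 p3 p13 (by norm_num) (by norm_num) (by norm_num) (by norm_num)
        (fun g => (no_orders_L63 Cfsg.Agent.Lib.helper3.S63.trace_S8 g).2.2.2.1)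
    · exact oddT 5 13 65 p5 p13 (by norm_num) (by norm_num) (by norm_num) (by norm_num)
        (fun g => (no_orders_L63 Cfsg.Agent.Lib.helper3.S63.trace_S8 g).2.2.2.2.1)
    · exact oddT 7 13 91 p7 p13 (by norm_num) (by norm_num) (by norm_num) (by norm_num)
        (fun g => (no_orders_L63 Cfsg.Agent.Lib.helper3.S63.trace_S8 g).2.2.2.2.2)
    · exact hp
    · exact hq
    · exact hpq

theorem main {F : Type*} [Field F] [Fintype F] (hF : Fintype.card F = 3) (N : ℕ) :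
    ∃ (H : Type) (_ : Group H) (_ : Finite H), N < Nat.card H ∧
      ((∀ p : ℕ, p.Prime → (p ∣ Nat.card (Cfsg.PSp 3 F) ↔ p ∣ Nat.card H)) ∧
      (∀ p q : ℕ, p.Prime → q.Prime → p ≠ q → ((∃ g : (Cfsg.PSp 3 F), orderOf g = p * q) ↔
        (∃ g : H, orderOf g = p * q)))) := by
  obtain ⟨hP1, hP2⟩ := psp_graph hF
  obtain ⟨H, iG, iF, hN, hH1, hH2⟩ := H_graph N
  refine ⟨H, iG, iF, hN, fun p hp => ?_, fun p q hp hq hpq => ?_⟩
  · rw [hP1 p hp, hH1 p hp]
  · rw [hP2 p q hp hq hpq, hH2 p q hp hq hpq]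

end Cfsg.Agent.Lib.Helper21.S63
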